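import Cfsg.Agent.H39.HN.T50.Data

/-!
Steps of a derivation (generated data).
-/

set_option autoImplicit false
set_option maxRecDepth 100000
set_option linter.all false
set_option Elab.async false

namespace H39
namespace HN
namespace T50

open H93.CosetI

noncomputable section

def st0 : List Step := [(9,[],[]),(0,[],[]),(0,[],[]),(0,[],[]),(0,[],[]),(0,[],[]),(0,[],[]),(10,[2,4,6,8,10,12],[2]),(0,[],[]),(0,[],[]),(0,[],[]),(0,[],[]),(0,[],[]),(4,[2,4,6,16,18,20,22,24],[1,2,15]),(0,[],[]),(0,[],[]),(0,[],[]),(0,[],[]),(0,[],[]),(0,[],[]),(0,[],[]),(0,[],[]),(0,[],[]),(6,[28,30,32,34,36,38,40,42,44],[1,2,15,13,11,9]),(0,[],[]),(0,[],[]),(0,[],[]),(3,[28,48,50,52],[2]),(0,[],[]),(0,[],[]),(0,[],[]),(0,[],[]),(0,[],[]),(0,[],[]),(0,[],[]),(0,[],[]),(0,[],[]),(0,[],[]),(0,[],[]),(0,[],[]),(0,[],[]),(0,[],[]),(0,[],[]),(0,[],[]),(7,[28,48,50,56,58,60,62,64,66,68,70,72,74,76,78,80,82,84,86],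[1,2,15,13]),(0,[],[]),(0,[],[]),(0,[],[]),(0,[],[]),(0,[],[]),(0,[],[]),(0,[],[]),(0,[],[]),(0,[],[]),(0,[],[]),(0,[],[]),(0,[],[]),(5,[28,48,50,56,58,90,92,94,96,98,100,102,104,106,108,110,112],[1,2,55]),(0,[],[]),(0,[],[]),(0,[],[]),(0,[],[]),(0,[],[]),(0,[],[]),(0,[],[]),(0,[],[]),(0,[],[]),(0,[],[]),(0,[],[]),(0,[],[]),(0,[],[]),(8,[2,55,116,118,120,122,124,126,128,130,132,134,136,138,140],[1,2,55,115]),(2,[4],[15]),(1,[145],[]),(1,[147,14],[]),(1,[147,27],[]),(1,[7,150],[]),(1,[147,13],[]),(1,[153],[]),(1,[157,25],[]),(1,[46,158],[]),(1,[160],[]),(1,[163,46],[]),(1,[163,45],[]),(1,[22,166],[]),(1,[169],[]),(1,[171,43],[]),(1,[20,172],[]),(1,[175],[]),(1,[177,41],[]),(3,[6,8],[154,89,87]),(2,[16],[165]),(1,[183],[]),(1,[185,164],[]),(1,[185,23],[]),(1,[19,188],[]),(1,[191],[]),(1,[193,21],[]),(2,[10],[]),(2,[30],[]),(2,[34],[]),(2,[38],[]),(2,[56],[]),(2,[116],[115]),(1,[206],[]),(1,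[209,117],[]),(1,[209,118],[]),(1,[142,212],[]),(1,[214],[]),(1,[217,141],[]),(1,[217,142],[]),(2,[60],[]),(2,[68],[]),(2,[72],[]),(2,[80],[]),(2,[84],[]),(4,[181,10,155,148,55,211,221,120],[85,83,81]),(2,[92],[]),(2,[100],[]),(2,[106],[]),(4,[220,114,54,4,154,196,180,230,83,228,233],[218]),(1,[241],[]),(1,[243,219],[]),(1,[243,139],[]),(1,[123,246],[]),(1,[249],[]),(1,[251,137],[]),(3,[122],[232,79,77,75]),(2,[124],[252]),(1,[257],[]),(1,[259,253],[]),(0,[],[]),(0,[],[]),(0,[],[]),(0,[],[]),(0,[],[]),(0,[],[]),(0,[],[]),(0,[],[]),(0,[],[]),(7,[3,28,48,262,264,266,268,270,272,274,276,278],[149,154,11,9,7,154,11,9,187,18,178]),(0,[],[]),(0,[],[]),(0,[],[]),(0,[],[]),(0,[],[]),(0,[],[]),(0,[],[]),(0,[],[]),(0,[],[]),(0,[],[]),(0,[],[]),(0,[],[]),(5,[3,28,48,262,264,282,284,286,288,290,292,294,296,298,300,302,304],[149,154,89]),(0,[],[]),(0,[],[]),(0,[],[]),(0,[],[]),(0,[],[]),(0,[],[]),(0,[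],[]),(0,[],[]),(0,[],[]),(8,[55,53,56,58,60,62,308,310,312,314,316,318,320,322,324],[149,154,89,307]),(0,[],[]),(0,[],[]),(0,[],[]),(0,[],[]),(0,[],[]),(0,[],[]),(0,[],[]),(0,[],[]),(0,[],[]),(6,[6,16,328,330,332,334,336,338,340,342,344],[5,55,115,113]),(0,[],[]),(0,[],[]),(0,[],[]),(0,[],[]),(0,[],[]),(0,[],[]),(0,[],[]),(0,[],[]),(0,[],[]),(0,[],[]),(0,[],[]),(0,[],[]),(0,[],[]),(0,[],[]),(0,[],[]),(0,[],[]),(5,[6,8,180,230,348,358,360,362,364,366,368,370,372,374,376,378],[5,55,53,205]),(0,[],[]),(0,[],[]),(0,[],[]),(0,[],[]),(0,[],[]),(0,[],[]),(0,[],[]),(0,[],[]),(0,[],[]),(0,[],[]),(8,[154,89,382,384,386,388,390,392,394,396,398,400],[5,55,53,205,58,223,62]),(2,[262],[]),(3,[58,90],[381,379,377]),(2,[308],[403]),(1,[409],[]),(1,[411,402],[]),(1,[411,401],[]),(1,[311,414],[]),(1,[417],[]),(1,[419,399],[]),(1,[313,420],[]),(1,[423],[]),(1,[425,397],[]),(2,[382],[307]),(1,[428],[]),(1,[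431,383],[]),(1,[431,384],[]),(1,[326,434],[]),(1,[437],[]),(1,[439,386],[]),(2,[],[347]),(2,[266],[]),(2,[274],[]),(2,[278],[]),(2,[292],[]),(2,[298],[]),(2,[314],[426]),(1,[455],[]),(1,[457,395],[]),(1,[317,458],[]),(1,[461],[]),(1,[463,393],[]),(1,[319,464],[]),(1,[467],[]),(1,[469,391],[]),(2,[320],[470]),(1,[473],[]),(1,[475,389],[]),(1,[323,476],[]),(1,[479],[]),(1,[481,441],[]),(2,[330],[]),(2,[342],[]),(2,[350],[]),(2,[374],[]),(0,[],[]),(0,[],[]),(0,[],[]),(0,[],[])]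

theorem ok0 : data.stepsOK st0 0 = true := by decide +kernel

def st1 : List Step := [(0,[],[]),(0,[],[]),(0,[],[]),(0,[],[]),(0,[],[]),(0,[],[]),(0,[],[]),(7,[8,180,86,433,327,483,323,492,494,496,498,500,502,504,506,508,510,512],[187,18,194,178,281]),(0,[],[]),(0,[],[]),(0,[],[]),(0,[],[]),(0,[],[]),(0,[],[]),(0,[],[]),(0,[],[]),(0,[],[]),(0,[],[]),(5,[8,180,86,433,327,516,518,520,522,524,526,528,530,532,534],[187,18,178,39,37]),(0,[],[]),(0,[],[]),(0,[],[]),(0,[],[]),(0,[],[]),(0,[],[]),(0,[],[]),(0,[],[]),(8,[7,154,196,180,230,348,350,538,540,542,544,546,548,550,552],[187,18,178,39]),(0,[],[]),(0,[],[]),(4,[9,16,328,330,556,558],[197,89,307,327,325]),(0,[],[]),(0,[],[]),(0,[],[]),(0,[],[]),(0,[],[]),(0,[],[]),(0,[],[]),(0,[],[]),(0,[],[]),(0,[],[]),(7,[180,86,88,196,180,230,348,358,568,570,572,574,576,578,580],[197,89,307,305,303,301,299,297]),(0,[],[]),(0,[],[]),(0,[],[]),(0,[],[]),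(0,[],[]),(0,[],[]),(5,[180,86,88,196,180,86,433,327,516,584,586,588,590,592,594],[197,89,87,85,83]),(0,[],[]),(0,[],[]),(0,[],[]),(0,[],[]),(0,[],[]),(8,[9,7,148,3,0,28,30,598,600,602,604,606],[197,89,87,85,348,489,352]),(4,[89,433,327,483,561],[11,9,187,328,485,556]),(3,[328],[18,178,281,515]),(3,[82,348,358,568],[597,595]),(1,[615],[]),(1,[617,593],[]),(1,[617,594],[]),(2,[],[583]),(3,[300,302,304,327,516,584],[]),(1,[624],[]),(1,[627,586],[]),(1,[453,628],[]),(1,[627,585],[]),(1,[631],[]),(1,[635,588],[]),(2,[562],[609]),(1,[639],[]),(1,[641,608],[]),(1,[641,607],[]),(2,[512],[]),(2,[532],[]),(2,[548],[]),(2,[552],[]),(2,[566],[]),(2,[570],[618]),(1,[657],[]),(1,[659,619],[]),(1,[659,591],[]),(3,[572],[662,637,297,295]),(2,[602],[]),(0,[],[]),(5,[155,6,8,10,155,6,16,328,612,514,448,668],[11,9,7,5,55,53,51,405]),(0,[],[]),(0,[],[]),(0,[],[]),(0,[],[]),(0,[],[]),(0,[],[]),(0,[],[]),(0,[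],[]),(0,[],[]),(0,[],[]),(7,[328,612,514,448,668,672,674,676,678,680,682,684,686,688,690],[17,7,5,55,53,51,405,671]),(3,[264,282],[671,669,277]),(5,[268,270,272,274,276,668,672,674,676,678,680,682],[267,265,671,693,691,689,687,685,683]),(1,[696],[]),(1,[699,683],[]),(2,[672],[693]),(1,[703],[]),(1,[705,692],[]),(1,[705,691],[]),(0,[],[]),(4,[178,202,555,652,710],[194,178,39,555,553,710]),(0,[],[]),(0,[],[]),(0,[],[]),(0,[],[]),(0,[],[]),(0,[],[]),(0,[],[]),(0,[],[]),(5,[19,328,612,646,714,716,718,720,722,724,726,728],[194,178,281,279,277,695,283,445]),(0,[],[]),(0,[],[]),(0,[],[]),(0,[],[]),(4,[29,0,28,30,598,732,734,736,738],[199,598]),(0,[],[]),(0,[],[]),(0,[],[]),(0,[],[]),(0,[],[]),(0,[],[]),(0,[],[]),(0,[],[]),(0,[],[]),(0,[],[]),(0,[],[]),(0,[],[]),(0,[],[]),(5,[48,50,52,211,221,746,748,750,752,754,756,758,760,762,764,766],[199,598,600,667]),(0,[],[]),(0,[],[]),(0,[],[]),(0,[],[]),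(0,[],[]),(0,[],[]),(8,[29,2,4,6,16,328,330,556,770,772,774,776,778,780],[199,598,600,667,604]),(8,[49,29,0,28,30,32,34,537,535,648],[405,671,669,449,280,39,555,553,710]),(2,[744],[]),(3,[108,110,112,221,746],[]),(3,[268,270,272],[731,729]),(2,[742],[]),(3,[564],[644,605,769,767,765]),(1,[795],[]),(1,[797,763],[]),(1,[654,798],[]),(1,[801],[]),(1,[803,761],[]),(2,[732],[741]),(1,[807],[]),(1,[809,740],[]),(1,[809,739],[]),(1,[735,812],[]),(1,[815],[]),(1,[817,737],[]),(0,[],[]),(0,[],[]),(3,[32,820,822],[598,600]),(0,[],[]),(0,[],[]),(0,[],[]),(0,[],[]),(0,[],[]),(0,[],[]),(0,[],[]),(0,[],[]),(0,[],[]),(0,[],[]),(0,[],[]),(0,[],[]),(7,[32,820,822,826,828,830,832,834,836,838,840,842,844,846,848],[31,29,1,2,55,53,205,381]),(0,[],[]),(0,[],[]),(8,[33,598,732,734,819,854],[201,537,535,533,784,713,711,653,554,37,35,820,822]),(8,[537,535,648,784,712,711,552,554,37,200,820,822,826],[35,33,598,81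1,734,818,854]),(1,[859],[]),(1,[861,856],[]),(1,[861,855],[]),(2,[],[851]),(2,[852],[]),(0,[],[]),(0,[],[]),(0,[],[]),(0,[],[]),(4,[37,200,820,852,876],[203,281,279,668,707,708]),(0,[],[]),(0,[],[]),(0,[],[]),(0,[],[]),(0,[],[]),(6,[555,652,551,650,880,882,884,886,888],[203,281,279,277,275,273]),(4,[281,448,668,672,708],[39,37,35,820,869,876]),(5,[58,90,406,490],[57,51,49,199,598,600,825,863,864,735,733,600,825,823,869,876]),(6,[62,308],[61,59,57,51,405,671,707,708,879,895,491,407,235]),(3,[94,96,98],[897,310,312]),(1,[899],[]),(1,[901,314],[]),(1,[101,902],[]),(1,[901,313],[]),(1,[905],[]),(1,[909,316],[]),(1,[103,910],[]),(1,[913],[]),(1,[915,318],[]),(1,[105,916],[]),(1,[919],[]),(1,[921,320],[]),(1,[107,922],[]),(1,[925],[]),(1,[927,322],[]),(1,[788,928],[]),(1,[930],[]),(1,[933,748],[]),(1,[325,934],[]),(1,[933,788],[]),(1,[933,747],[]),(1,[560,940],[]),(1,[937],[]),(1,[945,750],[]),(1,[517,946],[]),(1,[942],[]),(1,[951,610],[]),(1,[121,952],[]),(1,[951,560],[]),(1,[949],[]),(1,[959,752],[]),(1,[632,960],[]),(1,[955],[]),(1,[965,557],[]),(1,[123,966],[]),(1,[965,770],[]),(1,[233,970],[]),(1,[963],[]),(1,[975,754],[]),(1,[301,976],[]),(1,[969],[]),(1,[981,484],[]),(1,[125,982],[]),(1,[981,332],[]),(1,[255,986],[]),(1,[973],[]),(1,[991,772],[]),(1,[81,992],[]),(1,[979],[]),(1,[997,756],[])]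

theorem ok1 : data.stepsOK st1 250 = true := by decide +kernel

def st2 : List Step := [(1,[985],[]),(1,[1001,612],[]),(1,[1001,329],[]),(1,[127,1004],[]),(1,[989],[]),(1,[1009,334],[]),(1,[227,1010],[]),(1,[995],[]),(1,[1015,774],[]),(1,[83,1016],[]),(1,[1006],[]),(1,[1021,127],[]),(1,[1013],[]),(1,[1025,336],[]),(1,[1019],[]),(1,[1029,776],[]),(1,[349,1030],[]),(1,[1033],[]),(1,[1035,778],[]),(1,[351,1036],[]),(1,[1039],[]),(1,[1041,780],[]),(1,[539,1042],[]),(1,[1045],[]),(1,[1047,782],[]),(8,[123,232,80,82,84,86,433,305,303,998,758,805,654,565,642,353,488,358,568,570],[]),(1,[1050],[]),(1,[1053,660],[]),(1,[125,1054],[]),(1,[1053,572],[]),(1,[255,1058],[]),(1,[1053,662],[]),(1,[122,1062],[]),(1,[1057],[]),(1,[1067,620],[]),(1,[1003,1068],[]),(1,[1067,569],[]),(1,[1022,1072],[]),(1,[1061],[]),(1,[1077,574],[]),(1,[227,1078],[]),(1,[1077,664],[]),(1,[75,1082],[]),(1,[1065],[]),(1,[108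7,637],[]),(1,[233,1088],[]),(1,[1071],[]),(1,[1093,596],[]),(1,[515,1094],[]),(1,[1075],[]),(1,[1099,360],[]),(1,[187,1100],[]),(1,[1099,359],[]),(1,[19,1104],[]),(1,[1081],[]),(1,[1109,576],[]),(1,[1027,1110],[]),(1,[1085],[]),(1,[1115,450],[]),(1,[745,1116],[]),(1,[1115,294],[]),(1,[77,1120],[]),(1,[1091],[]),(1,[1125,298],[]),(1,[81,1126],[]),(1,[1096],[]),(1,[1131,448],[]),(1,[229,1132],[]),(1,[1131,280],[]),(1,[83,1136],[]),(1,[1131,515],[]),(1,[1103],[]),(1,[1143,362],[]),(1,[9,1144],[]),(1,[1107],[]),(1,[1149,350],[]),(1,[194,1150],[]),(1,[1113],[]),(1,[1155,578],[]),(1,[1118],[]),(1,[1159,786],[]),(1,[1159,745],[]),(1,[1123],[]),(1,[1165,622],[]),(1,[1165,583],[]),(1,[1129],[]),(1,[1171,300],[]),(1,[83,1172],[]),(1,[1171,632],[]),(1,[1141,1176],[]),(1,[1135],[]),(1,[1181,668],[]),(1,[232,1182],[]),(1,[1181,277],[]),(1,[78,1186],[]),(1,[1138],[]),(1,[1191,84],[]),(1,[203,1192],[])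,(1,[1147],[]),(1,[1197,364],[]),(1,[181,1198],[]),(1,[1153],[]),(1,[1203,352],[]),(1,[18,1204],[]),(1,[1203,538],[]),(1,[179,1208],[]),(1,[1175,1190],[]),(1,[1213,302],[]),(1,[178,1214],[]),(1,[1179],[]),(1,[1219,517],[]),(1,[1002,1220],[]),(1,[1185],[]),(1,[1225,672],[]),(1,[245,1226],[]),(1,[1225,670],[]),(1,[123,1230],[]),(1,[1189],[]),(1,[1235,446],[]),(1,[1167,1236],[]),(1,[1235,695],[]),(1,[76,1240],[]),(1,[1195],[]),(1,[1245,86],[]),(1,[554,1246],[]),(1,[1245,181],[]),(1,[36,1250],[]),(1,[1201,1244],[]),(1,[1255,366],[]),(1,[554,1256],[]),(1,[1207],[]),(1,[1261,562],[]),(1,[187,1262],[]),(1,[1261,354],[]),(1,[1023,1266],[]),(1,[1211],[]),(1,[1271,1048],[]),(1,[203,1272],[]),(1,[1217],[]),(1,[1277,304],[]),(1,[18,1278],[]),(1,[1223],[]),(1,[1283,483],[]),(1,[261,1284],[]),(1,[1229],[]),(1,[1289,674],[]),(1,[957,1290],[]),(1,[1289,708],[]),(1,[221,1294],[]),(1,[1233],[]),(1,[1299,40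4],[]),(1,[125,1300],[]),(1,[1299,264],[]),(1,[255,1304],[]),(1,[1238],[]),(1,[1309,1169],[]),(1,[1309,1167],[]),(1,[1309,581],[]),(1,[272,1314],[]),(1,[1243],[]),(1,[1319,284],[]),(1,[1162,1320],[]),(1,[1248],[]),(1,[1325,652],[]),(1,[432,1326],[]),(1,[1325,870],[]),(1,[89,1330],[]),(1,[1252],[]),(1,[1335,36],[]),(1,[1259,1324],[]),(1,[1339,368],[]),(1,[432,1340],[]),(1,[1265],[]),(1,[1345,644],[]),(1,[6,1346],[]),(1,[1269],[]),(1,[1351,356],[]),(1,[1003,1352],[]),(1,[1275],[]),(1,[1281],[]),(1,[1287],[]),(1,[1361,938],[]),(1,[255,1362],[]),(1,[1361,957],[]),(1,[122,1366],[]),(1,[1293,1360],[]),(1,[1371,676],[]),(1,[255,1372],[]),(1,[1297],[]),(1,[1377,892],[]),(1,[115,1378],[]),(1,[1302],[]),(1,[1383,260],[]),(1,[1383,125],[]),(1,[1383,1002],[]),(1,[51,1388],[]),(1,[1383,1023],[]),(1,[48,1392],[]),(1,[1307],[]),(1,[1397,266],[]),(1,[227,1398],[]),(1,[1317],[]),(1,[1403,1157],[]),(1,[270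,1404],[]),(1,[1322],[]),(1,[1409,1160],[]),(1,[1409,1162],[]),(1,[1409,291],[]),(1,[1329,1358],[]),(1,[1417,551],[]),(1,[1333],[]),(1,[1421,872],[]),(1,[197,1422],[]),(1,[1343,1358],[]),(1,[1427,370],[]),(1,[1419,1428],[]),(1,[1357,1349],[]),(1,[1433,1337],[]),(1,[155,1434],[]),(1,[1354],[]),(1,[1439,1141],[]),(1,[1365],[]),(1,[1443,238],[]),(1,[227,1444],[]),(1,[1443,108],[]),(1,[75,1448],[]),(1,[1368],[]),(1,[1453,121],[]),(1,[1453,122],[]),(1,[1453,232],[]),(1,[221,1458],[]),(1,[1375],[]),(1,[1463,678],[]),(1,[75,1464],[]),(1,[1381],[]),(1,[1469,895],[]),(1,[52,1470],[]),(1,[1439,1391],[]),(1,[1475,1440],[]),(1,[53,1476],[]),(1,[1394],[]),(1,[1481,48],[]),(1,[1419,1482],[]),(1,[1481,29],[]),(1,[19,1486],[]),(1,[1401],[]),(1,[1491,731],[]),(1,[70,1492],[]),(1,[1407],[]),(1,[1497,338],[])]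

theorem ok2 : data.stepsOK st2 500 = true := by decide +kernel

def st3 : List Step := [(1,[743,1498],[]),(1,[1497,1027],[]),(1,[1425],[]),(1,[1505,874],[]),(1,[1430],[]),(1,[1509,1419],[]),(1,[1436],[]),(1,[1513,11],[]),(1,[1513,155],[]),(1,[1507,1516],[]),(1,[1447],[]),(1,[1521,105],[]),(1,[70,1522],[]),(1,[1451],[]),(1,[1527,110],[]),(1,[77,1528],[]),(1,[1460],[]),(1,[1533,221],[]),(1,[1467],[]),(1,[1537,680],[]),(1,[1412,1538],[]),(1,[1473],[]),(1,[1543,374],[]),(1,[57,1544],[]),(1,[1479],[]),(1,[1549,228],[]),(1,[1549,81],[]),(1,[1509,1484],[]),(1,[1555,1510],[]),(1,[1488],[]),(1,[1559,19],[]),(1,[1495],[]),(1,[1563,729],[]),(1,[1500],[]),(1,[1567,792],[]),(1,[1518],[]),(1,[1571,1507],[]),(1,[1525],[]),(1,[1575,103],[]),(1,[1565,1576],[]),(1,[1531],[]),(1,[1581,442],[]),(1,[1312,1582],[]),(1,[1541],[]),(1,[1587,701,1586],[]),(1,[287,1588],[]),(1,[1547],[]),(1,[1593,407],[]),(1,[380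,1594],[]),(1,[1578],[]),(1,[1599,1565],[]),(1,[1599,791],[]),(1,[1585],[]),(1,[1605,345],[]),(1,[272,1606],[]),(1,[1590],[]),(1,[1611,288],[]),(1,[287,1612],[]),(1,[1596],[]),(1,[1617,380],[]),(1,[1609],[]),(1,[1621,486],[]),(1,[1621,343],[]),(1,[890,1624],[]),(1,[1615,1610],[]),(1,[1629,1415],[]),(1,[1626],[]),(1,[1633,890],[]),(4,[1502,72,74,1413,1631,1410,76,1313,273,1622],[1569]),(0,[],[]),(4,[51,1384,254,226,71,224,1638],[205,1619,235,94]),(0,[],[]),(5,[52,54,3,0,1560,1557,1384,254,74,76,1313,1603,1600,224,1638,1642],[205,1619,91,223]),(4,[53,56,58,60,1645],[1552,79,1311,1603,101,99]),(4,[1619,92,94],[57,51,1386,254,73,71,69,1638]),(4,[59,204,52,1550,79,1313,1603,236,99],[223,1645]),(0,[],[]),(0,[],[]),(0,[],[]),(0,[],[]),(0,[],[]),(0,[],[]),(0,[],[]),(5,[90,1618,58,60,62,64,1652,1654,1656,1658,1660,1662,1664],[223,1645,1643,1649,95,897,310]),(4,[63,222,90,92,897,412,64,1652],[413,3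10,1667]),(2,[1652],[]),(6,[70,72,74,1413,1630,1410,76,1313,1603,236,906],[69,67,1671,1668]),(7,[70,1503,270,1622,1636,1568,270,272,1603,236,906,1672,1669,1654,1656],[69,67,1671,1668,1665,1663,1661,1659]),(5,[1618,58,90,92,94,96,1650,1644,62,64,1652,1654,1656,1674,1658],[235,897,310,1667,1665,1663]),(1,[1677],[]),(1,[1679,1661],[]),(1,[1679,1662],[]),(0,[],[]),(0,[],[]),(0,[],[]),(0,[],[]),(0,[],[]),(0,[],[]),(0,[],[]),(0,[],[]),(6,[64,1652,1654,1684,1686,1688,1690,1692,1694,1696,1698],[413,310,1667,1665]),(0,[],[]),(0,[],[]),(7,[64,66,1638,1640,96,1650,1644,62,64,1652,1654,1684,1686,1702,1704],[413,310,1667,1665,1683,1659,1675,1657]),(0,[],[]),(0,[],[]),(5,[66,1638,1642,1646,98,906,1672,1669,1654,1656,1674,1658,1682,1708,1710],[1671,1668,1665,1701,1699]),(8,[65,63,222,90,92,94,1648,1639,67,1652,1654,1656,1674,1657,1684],[1671,1668,1665,1701]),(4,[1601,236,906,1672,1665,1708,1710],[69,67,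1671,1654,1707]),(1,[1716],[]),(1,[1719,1712],[]),(1,[1719,1711],[]),(1,[1704,1722],[]),(1,[1725],[]),(1,[1727,1709],[]),(2,[1684],[1707]),(1,[1731],[]),(1,[1733,1706],[]),(1,[1733,1720],[]),(1,[1687,1736],[]),(1,[1733,1705],[]),(1,[1715,1740],[]),(1,[1739],[]),(1,[1745,1697],[]),(1,[1743],[]),(1,[1749,1728],[]),(1,[1749,1703],[]),(4,[1657,1684,1686,1688],[1675,1657,1735,1686,1746,1695,1693]),(4,[1683,1681,1682,1751,1752,1688,1690,1692],[1701,1752,1746]),(2,[1688],[1746]),(1,[1759],[]),(1,[1761,1747],[]),(1,[1761,1757],[]),(1,[1691,1764],[]),(1,[1767],[]),(1,[1769,1693],[])]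

theorem ok3 : data.stepsOK st3 750 = true := by decide +kernel

end

end T50
end HN
end H39
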